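import Mathlib
import Groth.Prelude.Def_Cyc
import Groth.Agent.TameLib.OrdFrac
import Groth.Agent.EquidimLib.DimBetween

/-!
# Orders of rational functions along specializations
-/

set_option autoImplicit false
set_option linter.style.haveILetI false

universe u

open AlgebraicGeometry CategoryTheory IsLocalRing

noncomputable section

namespace CycDivLib

variable {X : Scheme.{u}} {x ξ : X} (h : ξ ⤳ x)

/-- The prime of a generization. -/
def primeOf : PrimeSpectrum (X.presheaf.stalk x) :=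
  PrimeSpectrum.comap (X.presheaf.stalkSpecializes h).hom (closedPoint (X.presheaf.stalk ξ))

theorem stalkPt_primeOf : EquidimLib.stalkPt x (primeOf h) = ξ := by
  show (Spec.map (X.presheaf.stalkSpecializes h) ≫ X.fromSpecStalk x) (closedPoint _) = ξ
  rw [Scheme.SpecMap_stalkSpecializes_fromSpecStalk]
  exact Scheme.fromSpecStalk_closedPoint

theorem ker_specMap : RingHom.ker (Cyc.specMap x ξ h) = (primeOf h).asIdeal := by
  ext a
  show X.residue ξ (X.presheaf.stalkSpecializes h a) = 0 ↔ _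
  exact IsLocalRing.residue_eq_zero_iff _

theorem specMap_eq_zero_iff (a : X.presheaf.stalk x) : Cyc.specMap x ξ h a = 0 ↔ a ∈ (primeOf h).asIdeal := by
  rw [← RingHom.mem_ker, ker_specMap]

theorem dim_quotient : ringKrullDim (X.presheaf.stalk x ⧸ (primeOf h).asIdeal) = EquidimLib.dimBetween ξ x := by
  rw [EquidimLib.stalk_quotient_dim_eq, stalkPt_primeOf]

theorem dim_locQuot : ringKrullDim (Cyc.LocQuot x ξ h) = EquidimLib.dimBetween ξ x :=
  (ringKrullDim_eq_of_ringEquiv (Ideal.quotEquivOfEq (ker_specMap h))).trans (dim_quotient h)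

instance isDomain_locQuot : IsDomain (Cyc.LocQuot x ξ h) :=
  haveI : (RingHom.ker (Cyc.specMap x ξ h)).IsPrime := RingHom.ker_isPrime _
  Ideal.Quotient.isDomain _

theorem algebraMap_mk (a : X.presheaf.stalk x) :
    algebraMap (Cyc.LocQuot x ξ h) (X.residueField ξ) (Ideal.Quotient.mk _ a) = Cyc.specMap x ξ h a := rfl

/-- Every element of the residue field is a fraction of germs. -/
theorem exists_div (z : X.residueField ξ) :
    ∃ a b : X.presheaf.stalk x, Cyc.specMap x ξ h b ≠ 0 ∧ z = Cyc.specMap x ξ h a / Cyc.specMap x ξ h b := by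
  obtain ⟨φ, rfl⟩ := X.residue_surjective ξ z
  obtain ⟨U, hU, hxU, -⟩ := exists_isAffineOpen_mem_and_subset (X := X) (x := x) (U := ⊤) trivial
  have hξU : ξ ∈ U := h.mem_open U.isOpen hxU
  let alg := X.presheaf.algebra_section_stalk (⟨ξ, hξU⟩ : U)
  haveI : IsLocalization.AtPrime (X.presheaf.stalk ξ) (hU.primeIdealOf ⟨ξ, hξU⟩).asIdeal :=
    hU.isLocalization_stalk ⟨ξ, hξU⟩
  obtain ⟨a, s, rfl⟩ := IsLocalization.exists_mk'_eq (hU.primeIdealOf ⟨ξ, hξU⟩).asIdeal.primeCompl φ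
  have hσ : ∀ r : Γ(X, U), Cyc.specMap x ξ h (X.presheaf.germ U x hxU r) = X.residue ξ (algebraMap Γ(X, U) _ r) :=
    fun r => congrArg (X.residue ξ) (TopCat.Presheaf.germ_stalkSpecializes_apply X.presheaf (U := U) hxU h r)
  have hs : X.residue ξ (algebraMap Γ(X, U) (X.presheaf.stalk ξ) s) ≠ 0 := fun h0 =>
    (IsLocalRing.mem_maximalIdeal _).1 ((IsLocalRing.residue_eq_zero_iff _).1 h0)
      (IsLocalization.map_units _ s)
  refine ⟨X.presheaf.germ U x hxU a, X.presheaf.germ U x hxU s, by rw [hσ]; exact hs, ?_⟩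
  rw [hσ, hσ, eq_div_iff hs, ← map_mul, IsLocalization.mk'_spec]

instance isFractionRing_locQuot : IsFractionRing (Cyc.LocQuot x ξ h) (X.residueField ξ) := by
  haveI : FaithfulSMul (Cyc.LocQuot x ξ h) (X.residueField ξ) :=
    (faithfulSMul_iff_algebraMap_injective _ _).2 (RingHom.lift_injective_of_ker_le_ideal _ _ le_rfl)
  refine IsFractionRing.of_field _ _ fun z => ?_
  obtain ⟨a, b, -, rfl⟩ := exists_div h z
  exact ⟨Ideal.Quotient.mk _ a, Ideal.Quotient.mk _ b, rfl⟩

variable [IsNoetherianRing (X.presheaf.stalk x)]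

/-- The order of a germ. -/
theorem ordAt_specMap (hd : EquidimLib.dimBetween ξ x ≤ 1) {a : X.presheaf.stalk x} (ha : Cyc.specMap x ξ h a ≠ 0) :
    Cyc.ordAt x ξ h (Cyc.specMap x ξ h a) = ((Module.length (X.presheaf.stalk x)
      (X.presheaf.stalk x ⧸ (primeOf h).asIdeal ⊔ Ideal.span {a})).toNat : ℤ) := by
  haveI : Ring.KrullDimLE 1 (Cyc.LocQuot x ξ h) := Ring.krullDimLE_iff.2 ((dim_locQuot h).le.trans hd)
  have ha' : Ideal.Quotient.mk (RingHom.ker (Cyc.specMap x ξ h)) a ≠ 0 := by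
    rwa [ne_eq, Ideal.Quotient.eq_zero_iff_mem, RingHom.mem_ker]
  rw [Cyc.ordAt, ← algebraMap_mk h a, TameLib.ordFrac_algebraMap ha', Ring.ord]
  congr 2
  rw [← Module.length_eq_of_surjective (S := X.presheaf.stalk x) (R := Cyc.LocQuot x ξ h) Ideal.Quotient.mk_surjective,
    show Ideal.span {Ideal.Quotient.mk (RingHom.ker (Cyc.specMap x ξ h)) a} =
      (Ideal.span {a}).map (Ideal.Quotient.mk _) from by rw [Ideal.map_span, Set.image_singleton]]
  exact ((DoubleQuot.quotQuotEquivQuotSupₐ (X.presheaf.stalk x) (RingHom.ker (Cyc.specMap x ξ h))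
    (Ideal.span {a})).toLinearEquiv.trans (Ideal.quotientEquivAlgOfEq _ (by rw [ker_specMap])).toLinearEquiv).length_eq

theorem ordAt_div (hd : EquidimLib.dimBetween ξ x ≤ 1) {y z : X.residueField ξ} (hy : y ≠ 0) (hz : z ≠ 0) :
    Cyc.ordAt x ξ h (y / z) = Cyc.ordAt x ξ h y - Cyc.ordAt x ξ h z := by
  haveI : Ring.KrullDimLE 1 (Cyc.LocQuot x ξ h) := Ring.krullDimLE_iff.2 ((dim_locQuot h).le.trans hd)
  rw [Cyc.ordAt, Cyc.ordAt, Cyc.ordAt, div_eq_mul_inv, TameLib.ordFrac_mul hy (inv_ne_zero hz),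
    TameLib.ordFrac_inv hz]
  ring

theorem ordAt_mul (hd : EquidimLib.dimBetween ξ x ≤ 1) {y z : X.residueField ξ} (hy : y ≠ 0) (hz : z ≠ 0) :
    Cyc.ordAt x ξ h (y * z) = Cyc.ordAt x ξ h y + Cyc.ordAt x ξ h z := by
  haveI : Ring.KrullDimLE 1 (Cyc.LocQuot x ξ h) := Ring.krullDimLE_iff.2 ((dim_locQuot h).le.trans hd)
  exact TameLib.ordFrac_mul hy hz

end CycDivLib

end
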