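import Mathlib
import Groth.Agent.S1833
import Groth.Agent.S16234

/-!
# Lengths along flat local homomorphisms modulo a prime
-/

set_option autoImplicit false
set_option linter.style.haveILetI false

universe u

open IsLocalRing Pointwise

namespace CycDivLib

theorem length_quot_map_ringEquiv {R S : Type u} [CommRing R] [CommRing S] (e : R ≃+* S) (I : Ideal R) :
    Module.length S (S ⧸ I.map e.toRingHom) = Module.length R (R ⧸ I) := by
  letI := e.toRingHom.toAlgebra
  rw [← Module.length_eq_of_surjective (R := S) (S := R) (M := S ⧸ I.map e.toRingHom) e.surjective]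
  let ψ : R →ₗ[R] S ⧸ I.map e.toRingHom :=
    ((Ideal.Quotient.mkₐ R (I.map e.toRingHom)).comp (Algebra.ofId R S)).toLinearMap
  have hk : LinearMap.ker ψ = I := by
    ext r
    show Ideal.Quotient.mk (I.map e.toRingHom) (e r) = 0 ↔ _
    rw [Ideal.Quotient.eq_zero_iff_mem]
    exact ⟨fun h => by
      obtain ⟨s, hs, hse⟩ := (Ideal.mem_map_iff_of_surjective e.toRingHom e.surjective).1 h
      rwa [← e.injective hse], fun h => Ideal.mem_map_of_mem _ h⟩
  exact ((Submodule.quotEquivOfEq _ _ hk.symm).trans (LinearMap.quotKerEquivOfSurjective ψ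
    (Ideal.Quotient.mk_surjective.comp e.surjective))).length_eq.symm

theorem length_localized_quotient {R : Type u} [CommRing R] (p : Ideal R) [p.IsPrime] (T : Type u) [CommRing T]
    [Algebra R T] [IsLocalization.AtPrime T p] (I : Ideal R) :
    Module.length (Localization.AtPrime p) (LocalizedModule p.primeCompl (R ⧸ I)) =
      Module.length T (T ⧸ I.map (algebraMap R T)) := by
  let e := IsLocalization.algEquiv p.primeCompl (Localization.AtPrime p) T
  rw [(LocalizedModule.equivTensorProduct p.primeCompl (R ⧸ I)).length_eq,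
    ← (Algebra.TensorProduct.quotIdealMapEquivTensorQuot (Localization.AtPrime p) I).toLinearEquiv.length_eq,
    ← length_quot_map_ringEquiv e.toRingEquiv, Ideal.map_map]
  congr 3 <;> exact RingHom.ext fun r => e.commutes r

theorem length_quot_quot {R : Type u} [CommRing R] (I : Ideal R) (a : R) :
    Ring.ord (R ⧸ I) (Ideal.Quotient.mk I a) = Module.length R (R ⧸ I ⊔ Ideal.span {a}) := by
  rw [Ring.ord, ← Module.length_eq_of_surjective (S := R) (R := R ⧸ I) Ideal.Quotient.mk_surjective,
    show Ideal.span {Ideal.Quotient.mk I a} = (Ideal.span {a}).map (Ideal.Quotient.mk I) from by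
      rw [Ideal.map_span, Set.image_singleton]]
  exact (DoubleQuot.quotQuotEquivQuotSupₐ R I (Ideal.span {a})).toLinearEquiv.length_eq

variable {A B : Type u} [CommRing A] [IsNoetherianRing A] [IsLocalRing A] [CommRing B] [IsNoetherianRing B]
  [IsLocalRing B] [Algebra A B] [Module.Flat A B] [IsLocalHom (algebraMap A B)]

/-- The order along a flat local homomorphism is distributed over the primes above. -/
theorem flat_length_sum (P : Ideal A) [P.IsPrime] (a : A) (ha : a ∉ P)
    (hA : Module.length A (A ⧸ P ⊔ Ideal.span {a}) ≠ ⊤)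
    (hB : Module.length B (B ⧸ (maximalIdeal A).map (algebraMap A B)) ≠ ⊤) :
    Module.length A (A ⧸ P ⊔ Ideal.span {a}) * Module.length B (B ⧸ (maximalIdeal A).map (algebraMap A B)) =
      ∑ᶠ (p : PrimeSpectrum B) (_ : P.map (algebraMap A B) ≤ p.asIdeal ∧ p.asIdeal ≠ maximalIdeal B),
        Module.length B (B ⧸ p.asIdeal ⊔ Ideal.span {algebraMap A B a}) *
          Module.length (Localization.AtPrime p.asIdeal)
            (LocalizedModule p.asIdeal.primeCompl (B ⧸ P.map (algebraMap A B))) := by
  let I := P.map (algebraMap A B)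
  let b := algebraMap A B a
  classical
  by_cases hau : IsUnit a
  · have h0 : Module.length A (A ⧸ P ⊔ Ideal.span {a}) = 0 := by
      haveI : Subsingleton (A ⧸ P ⊔ Ideal.span {a}) := Ideal.Quotient.subsingleton_iff.2
        (by rw [Ideal.span_singleton_eq_top.2 hau, sup_top_eq])
      exact Module.length_eq_zero
    rw [h0, zero_mul, eq_comm]
    refine finsum_eq_zero_of_forall_eq_zero fun p => ?_
    rw [finsum_eq_if]
    split_ifs with hp
    swap
    · rfl
    haveI : Subsingleton (B ⧸ p.asIdeal ⊔ Ideal.span {algebraMap A B a}) := Ideal.Quotient.subsingleton_iff.2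
      (by rw [Ideal.span_singleton_eq_top.2 (hau.map _), sup_top_eq])
    rw [Module.length_eq_zero, zero_mul]
  have hlen : Module.length B (B ⧸ I ⊔ Ideal.span {b}) =
      Module.length A (A ⧸ P ⊔ Ideal.span {a}) * Module.length B (B ⧸ (maximalIdeal A).map (algebraMap A B)) := by
    rw [show I ⊔ Ideal.span {b} = (P ⊔ Ideal.span {a}).map (algebraMap A B) by
        rw [Ideal.map_sup, Ideal.map_span, Set.image_singleton],
      (Algebra.TensorProduct.quotIdealMapEquivTensorQuot B (P ⊔ Ideal.span {a})).toLinearEquiv.length_eq,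
      IsLocalRing.length_baseChange A B]
  have htop : (b • (⊤ : Submodule B (B ⧸ I))) = ((Ideal.span {b}).map (Ideal.Quotient.mkₐ B I)).restrictScalars B := by
    ext z
    rw [Submodule.restrictScalars_mem, Submodule.mem_smul_pointwise_iff_exists, Ideal.map_span, Set.image_singleton,
      Ideal.mem_span_singleton']
    refine ⟨?_, ?_⟩
    · rintro ⟨w, -, rfl⟩
      exact ⟨w, by rw [Algebra.smul_def, mul_comm]; rfl⟩
    · rintro ⟨w, rfl⟩
      exact ⟨w, trivial, by rw [Algebra.smul_def, mul_comm]; rfl⟩
  have hM : Module.length B ((B ⧸ I) ⧸ b • (⊤ : Submodule B (B ⧸ I))) = Module.length B (B ⧸ I ⊔ Ideal.span {b}) := by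
    rw [htop]
    exact ((Submodule.Quotient.restrictScalarsEquiv B _).trans
      (DoubleQuot.quotQuotEquivQuotSupₐ B I (Ideal.span {b})).toLinearEquiv).length_eq
  have hne : Module.length B (B ⧸ I ⊔ Ideal.span {b}) ≠ ⊤ := hlen ▸ WithTop.mul_ne_top hA hB
  have hd0 : ringKrullDim (B ⧸ I ⊔ Ideal.span {b}) ≤ 0 := by
    haveI : IsFiniteLength B (B ⧸ I ⊔ Ideal.span {b}) := Module.length_ne_top_iff.mp hne
    haveI := (isFiniteLength_iff_isNoetherian_isArtinian.mp this).2
    haveI : IsArtinianRing (B ⧸ I ⊔ Ideal.span {b}) :=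
      isArtinian_of_tower B (inferInstance : IsArtinian B (B ⧸ I ⊔ Ideal.span {b}))
    exact Ring.krullDimLE_iff.1 inferInstance
  have hd1 : ringKrullDim (B ⧸ I) ≤ 1 := by
    rcases subsingleton_or_nontrivial (B ⧸ I) with h | h
    · rw [ringKrullDim_eq_bot_of_subsingleton]; exact bot_le
    · haveI : IsLocalRing (B ⧸ I) := IsLocalRing.of_surjective' _ Ideal.Quotient.mk_surjective
      haveI : IsLocalHom (Ideal.Quotient.mk I) := IsLocalHom.of_surjective _ Ideal.Quotient.mk_surjective
      have hu : ¬ IsUnit (Ideal.Quotient.mk I b) := fun hu =>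
        hau (isUnit_of_map_unit (algebraMap A B) a (isUnit_of_map_unit (Ideal.Quotient.mk I) b hu))
      have h2 := ringKrullDim_le_ringKrullDim_quotient_add_card ({Ideal.Quotient.mk I b} : Finset (B ⧸ I)) (by
        rw [Finset.coe_singleton, Set.singleton_subset_iff, SetLike.mem_coe, IsLocalRing.ringJacobson_eq_maximalIdeal]
        exact hu)
      refine h2.trans ?_
      rw [Finset.coe_singleton, Finset.card_singleton,
        show Ideal.span {Ideal.Quotient.mk I b} = (Ideal.span {b}).map (Ideal.Quotient.mk I) by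
          rw [Ideal.map_span, Set.image_singleton],
        ringKrullDim_eq_of_ringEquiv (DoubleQuot.quotQuotEquivQuotSup I (Ideal.span {b}))]
      exact (add_le_add hd0 le_rfl).trans (by simp)
  have hker : Module.length B (LinearMap.ker (LinearMap.lsmul B (B ⧸ I) b)) = 0 := by
    have hinjA : Function.Injective (LinearMap.lsmul A (A ⧸ P) a) := fun u v huv => by
      obtain ⟨u, rfl⟩ := Ideal.Quotient.mk_surjective u
      obtain ⟨v, rfl⟩ := Ideal.Quotient.mk_surjective v
      have h' : Ideal.Quotient.mk P (a * u) = Ideal.Quotient.mk P (a * v) := huv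
      rw [Ideal.Quotient.eq, ← mul_sub] at h'
      exact Ideal.Quotient.eq.2 ((‹P.IsPrime›.mem_or_mem h').resolve_left ha)
    have hinjB := Module.Flat.lTensor_preserves_injective_linearMap (M := B) _ hinjA
    let e := (Algebra.TensorProduct.quotIdealMapEquivTensorQuot B P).toLinearEquiv
    have hbot : LinearMap.ker (LinearMap.lsmul B (B ⧸ I) b) = ⊥ := by
      refine (Submodule.eq_bot_iff _).2 fun z hz => ?_
      rw [LinearMap.mem_ker, LinearMap.lsmul_apply] at hz
      apply e.injective
      rw [map_zero]
      apply hinjB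
      rw [map_zero]
      have : ∀ w : TensorProduct A B (A ⧸ P), LinearMap.lTensor B (LinearMap.lsmul A (A ⧸ P) a) w = b • w := by
        intro w
        induction w with
        | zero => rw [map_zero, smul_zero]
        | tmul s t =>
          rw [LinearMap.lTensor_tmul, LinearMap.lsmul_apply, TensorProduct.tmul_smul,
            show b • (s ⊗ₜ[A] t) = (b • s) ⊗ₜ[A] t from rfl, algebraMap_smul, TensorProduct.smul_tmul']
        | add u v hu hv => rw [map_add, smul_add, hu, hv]
      rw [this, ← map_smul, hz, map_zero]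
    rw [hbot, Module.length_bot]
  have h := Groth.Agent.S1833.result B (B ⧸ I) b
    (by rw [Module.supportDim_quotient_eq_ringKrullDim]; exact hd1)
    (by
      rw [htop, Module.supportDim_eq_of_equiv ((Submodule.Quotient.restrictScalarsEquiv B _).trans
        (DoubleQuot.quotQuotEquivQuotSupₐ B I (Ideal.span {b})).toLinearEquiv),
        Module.supportDim_quotient_eq_ringKrullDim]
      exact hd0)
  rw [hM, hlen, hker, zero_add] at h
  rw [h]
  refine finsum_congr fun p => ?_
  have hsupp : p ∈ Module.support B (B ⧸ I) ↔ I ≤ p.asIdeal := by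
    rw [Module.mem_support_iff_of_finite, Ideal.annihilator_quotient]
  refine finsum_congr_Prop (propext (and_congr_left' hsupp)) fun _ => ?_
  rw [length_quot_quot]

end CycDivLib
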