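import Mathlib
import Groth.Agent.CycDivLib.Ord
import Groth.Agent.CycDivLib.PullAlg
import Groth.Agent.CycLimLib.Gen
import Groth.Agent.CycLimLib.Dim

/-!
# Flat pullback of principal divisors
-/

set_option autoImplicit false
set_option linter.style.haveILetI false

universe u

open AlgebraicGeometry CategoryTheory IsLocalRing CycLimLib

noncomputable section

namespace CycDivLib

variable {X Y : Scheme.{u}}

theorem isLocalization_stalkSpecializes {x ξ : X} (h : ξ ⤳ x) :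
    letI := (X.presheaf.stalkSpecializes h).hom.toAlgebra
    IsLocalization.AtPrime (X.presheaf.stalk ξ) (primeOf h).asIdeal := by
  letI := (X.presheaf.stalkSpecializes h).hom.toAlgebra
  obtain ⟨U, hU, hxU, -⟩ := exists_isAffineOpen_mem_and_subset (X := X) (x := x) (U := ⊤) trivial
  have hξU : ξ ∈ U := h.mem_open U.isOpen hxU
  let algx := X.presheaf.algebra_section_stalk (⟨x, hxU⟩ : U)
  let algξ := X.presheaf.algebra_section_stalk (⟨ξ, hξU⟩ : U)
  haveI : IsLocalization.AtPrime (X.presheaf.stalk x) (hU.primeIdealOf ⟨x, hxU⟩).asIdeal := hU.isLocalization_stalk ⟨x, hxU⟩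
  haveI : IsLocalization.AtPrime (X.presheaf.stalk ξ) (hU.primeIdealOf ⟨ξ, hξU⟩).asIdeal := hU.isLocalization_stalk ⟨ξ, hξU⟩
  haveI : IsScalarTower Γ(X, U) (X.presheaf.stalk x) (X.presheaf.stalk ξ) := IsScalarTower.of_algebraMap_eq fun r =>
    (TopCat.Presheaf.germ_stalkSpecializes_apply X.presheaf (U := U) hxU h r).symm
  have hle : (hU.primeIdealOf ⟨x, hxU⟩).asIdeal.primeCompl ≤ (hU.primeIdealOf ⟨ξ, hξU⟩).asIdeal.primeCompl :=
    fun r hr hr' => hr (by
      have h1 : hU.primeIdealOf ⟨ξ, hξU⟩ ⤳ hU.primeIdealOf ⟨x, hxU⟩ := hU.fromSpec.isOpenEmbedding.isInducing.specializes_iff.1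
        (by rw [hU.fromSpec_primeIdealOf, hU.fromSpec_primeIdealOf]; exact h)
      exact (PrimeSpectrum.le_iff_specializes _ _).2 h1 hr')
  haveI := IsLocalization.isLocalization_of_submonoid_le (X.presheaf.stalk x) (X.presheaf.stalk ξ)
    (hU.primeIdealOf ⟨x, hxU⟩).asIdeal.primeCompl (hU.primeIdealOf ⟨ξ, hξU⟩).asIdeal.primeCompl hle
  refine IsLocalization.of_le ((hU.primeIdealOf ⟨ξ, hξU⟩).asIdeal.primeCompl.map (algebraMap Γ(X, U) (X.presheaf.stalk x)))
    _ ?_ fun r hr => ?_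
  · rintro _ ⟨r, hr, rfl⟩ hr'
    exact (mem_maximalIdeal _).1 hr' (by
      show IsUnit (algebraMap (X.presheaf.stalk x) (X.presheaf.stalk ξ) (algebraMap Γ(X, U) _ r))
      rw [← IsScalarTower.algebraMap_apply]
      exact IsLocalization.map_units _ ⟨r, hr⟩)
  · by_contra hu
    exact hr ((mem_maximalIdeal _).2 hu)

theorem map_primeOf {x ξ : X} (h : ξ ⤳ x) :
    (primeOf h).asIdeal.map (X.presheaf.stalkSpecializes h).hom = maximalIdeal (X.presheaf.stalk ξ) := by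
  letI := (X.presheaf.stalkSpecializes h).hom.toAlgebra
  haveI := isLocalization_stalkSpecializes h
  exact IsLocalization.AtPrime.map_eq_maximalIdeal (R := X.presheaf.stalk x) (primeOf h).asIdeal (X.presheaf.stalk ξ)

theorem toNat_sum {ι : Type*} (s : Finset ι) (c : ι → ℕ∞) (h : ∀ i ∈ s, c i ≠ ⊤) :
    ((∑ i ∈ s, c i).toNat : ℤ) = ∑ i ∈ s, ((c i).toNat : ℤ) := by
  classical
  induction s using Finset.induction_on with
  | empty => simp
  | insert a s ha ih =>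
    have hs : (∑ i ∈ s, c i) ≠ ⊤ := WithTop.sum_ne_top.2 fun i hi => h i (Finset.mem_insert_of_mem hi)
    rw [Finset.sum_insert ha, Finset.sum_insert ha, ENat.toNat_add (h a (Finset.mem_insert_self a s)) hs, Nat.cast_add,
      ih fun i hi => h i (Finset.mem_insert_of_mem hi)]

variable (f : X ⟶ Y)

theorem map_map_primeOf {x ζ : X} {ξ : Y} (hf : f ζ = ξ) (hξ : ξ ⤳ f x) (hζ : ζ ⤳ x) :
    ((primeOf hξ).asIdeal.map (f.stalkMap x).hom).map (X.presheaf.stalkSpecializes hζ).hom = fibIdeal f ζ := by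
  subst hf
  rw [fibIdeal, ← map_primeOf hξ, Ideal.map_map, Ideal.map_map, ← CommRingCat.hom_comp, ← CommRingCat.hom_comp]
  exact congrArg (fun φ : Y.presheaf.stalk (f x) ⟶ X.presheaf.stalk ζ => (primeOf hξ).asIdeal.map φ.hom)
    (f.stalkSpecializes_stalkMap ζ x hζ).symm

/-- The pullback of residue classes to a point over `ξ`. -/
def gpull {ζ : X} {ξ : Y} (h : f ζ = ξ) : Y.residueField ξ ⟶ X.residueField ζ :=
  (Y.residueFieldCongr h.symm).hom ≫ f.residueFieldMap ζ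

theorem gpull_specMap {x ζ : X} {ξ : Y} (h : f ζ = ξ) (hξ : ξ ⤳ f x) (hζ : ζ ⤳ x) (a : Y.presheaf.stalk (f x)) :
    gpull f h (Cyc.specMap (f x) ξ hξ a) = Cyc.specMap x ζ hζ (f.stalkMap x a) := by
  subst h
  have h1 := congrArg (fun φ : Y.presheaf.stalk (f ζ) ⟶ X.residueField ζ => φ (Y.presheaf.stalkSpecializes hξ a))
    (Scheme.residue_residueFieldMap f ζ)
  refine h1.trans ?_
  exact congrArg (X.residue ζ) (f.stalkSpecializes_stalkMap_apply ζ x hζ a)

theorem delta_le_of_gen {δX : X → ℤ} {δY : Y → ℤ} (hX : Cyc.IsSetup X δX) {r : ℤ}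
    (hgen : ∀ x, IsGen f x → δX x = δY (f x) + r) (x : X) :
    δX x ≤ δY (f x) + r ∧ (δX x = δY (f x) + r → IsGen f x) := by
  haveI := hX.1
  obtain ⟨z, hzx, hfz, hz⟩ := exists_gen f x
  by_cases he : z = x
  · subst he
    exact ⟨(hgen z hz).le, fun _ => hz⟩
  · have h := (hX.2.2 z x hzx he).1
    rw [hgen z hz, hfz] at h
    exact ⟨h.le, fun e => absurd e h.ne⟩

theorem isGen_of_over [Flat f] {δX : X → ℤ} {δY : Y → ℤ} (hX : Cyc.IsSetup X δX)
    {r : ℤ} (hgen : ∀ x, IsGen f x → δX x = δY (f x) + r) {x ζ : X} {ξ : Y} (hζ : ζ ⤳ x) (hne : ζ ≠ x)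
    (hf : f ζ = ξ) (e : δX x + 1 = δY ξ + r) : IsGen f ζ ∧ δX x + 1 = δX ζ := by
  have h1 := (hX.2.2 ζ x hζ hne).1
  have h2 := (delta_le_of_gen f hX hgen ζ).1
  rw [hf] at h2
  refine ⟨(delta_le_of_gen f hX hgen ζ).2 ?_, by omega⟩
  rw [hf]
  omega

/-- Flat pullback of a principal divisor, for a dimension function shifted at the generic points of fibres. -/
theorem pullFun_divFun_of_gen [Flat f] {δX : X → ℤ} {δY : Y → ℤ} (hX : Cyc.IsSetup X δX)
    (hY : Cyc.IsSetup Y δY) {r : ℤ} (hgen : ∀ x, IsGen f x → δX x = δY (f x) + r) (ξ : Y)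
    {g : Y.residueField ξ} (hg : g ≠ 0) (x : X) :
    Cyc.pullFun f δX δY r (Cyc.divFun δY ξ g) x =
      ∑ᶠ ζ : {ζ : X // IsGen f ζ ∧ f ζ = ξ},
        ((Module.length (X.presheaf.stalk ζ.1) (X.presheaf.stalk ζ.1 ⧸ fibIdeal f ζ.1)).toNat : ℤ) *
          Cyc.divFun δX ζ.1 (gpull f ζ.2.2 g) x := by
  classical
  haveI := hX.1
  haveI := hY.1
  have hdel : ∀ ζ : {ζ : X // IsGen f ζ ∧ f ζ = ξ}, δX ζ.1 = δY ξ + r := fun ζ => by
    rw [hgen ζ.1 ζ.2.1, ζ.2.2]
  simp only [Cyc.pullFun, Cyc.divFun]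
  by_cases hc : ξ ⤳ f x ∧ δX x + 1 = δY ξ + r
  swap
  · rw [finsum_eq_zero_of_forall_eq_zero fun ζ => ?_]
    · split_ifs with h1 h2
      · exact absurd ⟨h2.1, by omega⟩ hc
      · rw [zero_mul]
      · rfl
    · rw [dif_neg, mul_zero]
      rintro ⟨h1, h2⟩
      exact hc ⟨ζ.2.2 ▸ h1.map f.continuous, by rw [h2, hdel]⟩
  obtain ⟨hξ, e⟩ := hc
  let I := (primeOf hξ).asIdeal.map (f.stalkMap x).hom
  have hfin : {ζ : {ζ : X // IsGen f ζ ∧ f ζ = ξ} | ζ.1 ⤳ x}.Finite := by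
    refine Set.Finite.of_injOn (f := fun ζ => if h : ζ.1 ⤳ x then (primeOf h).asIdeal else ⊤)
      (t := I.minimalPrimes) ?_ ?_ (Ideal.finite_minimalPrimes_of_isNoetherianRing _ I)
    · intro ζ hζ
      simp only [dif_pos (show ζ.1 ⤳ x from hζ)]
      have hIle : I ≤ (primeOf (show ζ.1 ⤳ x from hζ)).asIdeal := by
        intro c hcI
        show X.presheaf.stalkSpecializes hζ c ∈ maximalIdeal _
        exact fibIdeal_le f ζ.1 (map_map_primeOf f ζ.2.2 hξ hζ ▸ Ideal.mem_map_of_mem _ hcI)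
      refine ⟨⟨(primeOf _).2, hIle⟩, fun q hq hqle => ?_⟩
      let Q : PrimeSpectrum (X.presheaf.stalk x) := ⟨q, hq.1⟩
      have hsp : EquidimLib.stalkPt x Q ⤳ ζ.1 := by
        have := EquidimLib.specializes_stalkPt (x := x) (show Q ≤ primeOf (show ζ.1 ⤳ x from hζ) from hqle)
        rwa [stalkPt_primeOf] at this
      have hQx := EquidimLib.stalkPt_specializes x Q
      have hξQ : ξ ⤳ f (EquidimLib.stalkPt x Q) := by
        have hle : primeOf hξ ≤ PrimeSpectrum.comap (f.stalkMap x).hom Q := Ideal.map_le_iff_le_comap.1 hq.2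
        have h4 := EquidimLib.specializes_stalkPt hle
        rw [stalkPt_primeOf] at h4
        refine h4.trans (specializes_of_eq ?_)
        show (Spec.map (f.stalkMap x) ≫ Y.fromSpecStalk (f x)) Q = (X.fromSpecStalk x ≫ f) Q
        rw [Scheme.SpecMap_stalkMap_fromSpecStalk]
      have heq : f (EquidimLib.stalkPt x Q) = f ζ.1 := by
        rw [ζ.2.2]
        exact ((hsp.map f.continuous).trans (specializes_of_eq ζ.2.2) |>.antisymm hξQ).eq
      have hQ : Q = primeOf (show ζ.1 ⤳ x from hζ) := EquidimLib.stalkPt_injective x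
        (by rw [stalkPt_primeOf]; exact ζ.2.1 _ heq hsp)
      exact (congrArg PrimeSpectrum.asIdeal hQ).ge
    · intro a ha b hb hab
      simp only [dif_pos (show a.1 ⤳ x from ha), dif_pos (show b.1 ⤳ x from hb)] at hab
      have := congrArg (EquidimLib.stalkPt x) (PrimeSpectrum.ext hab : primeOf (show a.1 ⤳ x from ha) = primeOf (show b.1 ⤳ x from hb))
      rw [stalkPt_primeOf, stalkPt_primeOf] at this
      exact Subtype.ext this
  have hdim : ∀ ζ : {ζ : X // IsGen f ζ ∧ f ζ = ξ}, δX x + 1 = δX ζ.1 := fun ζ => by rw [hdel, e]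
  rw [finsum_eq_sum_of_support_subset _ (s := hfin.toFinset) fun ζ hζ => by
      rw [Set.Finite.coe_toFinset]
      by_contra h
      refine hζ ?_
      show _ * _ = 0
      rw [dif_neg (fun hh => h hh.1), mul_zero],
    ← Finset.sum_attach]
  let T := {ζ // ζ ∈ hfin.toFinset}
  let m : T → ℤ := fun ζ => ((Module.length (X.presheaf.stalk ζ.1.1) (X.presheaf.stalk ζ.1.1 ⧸ fibIdeal f ζ.1.1)).toNat : ℤ)
  have hT : ∀ ζ : T, ζ.1.1 ⤳ x := fun ζ => hfin.mem_toFinset.1 ζ.2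
  let o : T → Y.residueField ξ → ℤ := fun ζ u => Cyc.ordAt x ζ.1.1 (hT ζ) (gpull f ζ.1.2.2 u)
  rw [Finset.sum_congr rfl (g := fun ζ : T => m ζ * o ζ g) fun ζ _ => congrArg (m ζ * ·) (dif_pos ⟨hT ζ, hdim ζ.1⟩)]
  have hd1 : ∀ ζ : T, EquidimLib.dimBetween ζ.1.1 x ≤ 1 := fun ζ => by
    obtain ⟨n, hn⟩ := EquidimLib.exists_dimBetween_eq_nat (hT ζ)
    have := delta_eq_add hX (hT ζ) hn
    have := hdim ζ.1
    rw [hn]
    exact_mod_cast (show n ≤ 1 by omega)
  obtain ⟨a, b, hb, rfl⟩ := exists_div hξ g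
  have ha : Cyc.specMap (f x) ξ hξ a ≠ 0 := fun h => hg (by rw [h, zero_div])
  have hne : ∀ (ζ : T) (c : Y.presheaf.stalk (f x)), Cyc.specMap (f x) ξ hξ c ≠ 0 →
      Cyc.specMap x ζ.1.1 (hT ζ) (f.stalkMap x c) ≠ 0 := fun ζ c hc => by
    rw [← gpull_specMap f ζ.1.2.2 hξ (hT ζ) c]
    exact (_root_.map_ne_zero (gpull f ζ.1.2.2).hom).2 hc
  have ho : ∀ ζ : T, m ζ * o ζ (Cyc.specMap (f x) ξ hξ a / Cyc.specMap (f x) ξ hξ b) =
      m ζ * o ζ (Cyc.specMap (f x) ξ hξ a) - m ζ * o ζ (Cyc.specMap (f x) ξ hξ b) := fun ζ => by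
    simp only [o]
    rw [map_div₀, gpull_specMap f ζ.1.2.2 hξ (hT ζ), gpull_specMap f ζ.1.2.2 hξ (hT ζ),
      ordAt_div _ (hd1 ζ) (hne ζ a ha) (hne ζ b hb), mul_sub]
  rw [Finset.sum_congr rfl fun ζ _ => ho ζ, Finset.sum_sub_distrib]
  by_cases hg' : δX x = δY (f x) + r
  swap
  · have hyξ : f x = ξ := by
      by_contra hn
      have h1 := (hY.2.2 ξ (f x) hξ (Ne.symm hn)).1
      have h2 := (delta_le_of_gen f hX hgen x).1
      omega
    have hunit : ∀ c : Y.presheaf.stalk (f x), Cyc.specMap (f x) ξ hξ c ≠ 0 → IsUnit c := fun c hc => by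
      by_contra hu
      refine hc ((specMap_eq_zero_iff hξ c).2 ?_)
      have hP : primeOf hξ = closedPoint _ := EquidimLib.stalkPt_injective (f x)
        (by rw [stalkPt_primeOf]; exact hyξ.symm.trans Scheme.fromSpecStalk_closedPoint.symm)
      rw [hP]
      exact (mem_maximalIdeal _).2 hu
    have hz : ∀ c : Y.presheaf.stalk (f x), Cyc.specMap (f x) ξ hξ c ≠ 0 → ∀ ζ : T,
        m ζ * o ζ (Cyc.specMap (f x) ξ hξ c) = 0 := fun c hc ζ => by
      simp only [o]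
      rw [gpull_specMap f ζ.1.2.2 hξ (hT ζ), ordAt_specMap _ (hd1 ζ) (hne ζ c hc)]
      haveI : Subsingleton (X.presheaf.stalk x ⧸ (primeOf (hT ζ)).asIdeal ⊔ Ideal.span {f.stalkMap x c}) :=
        Ideal.Quotient.subsingleton_iff.2 (by rw [Ideal.span_singleton_eq_top.2 ((hunit c hc).map (f.stalkMap x).hom), sup_top_eq])
      rw [Module.length_eq_zero]
      simp
    rw [if_neg hg', Finset.sum_eq_zero fun ζ _ => hz a ha ζ, Finset.sum_eq_zero fun ζ _ => hz b hb ζ, sub_zero]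
  have hy : δY (f x) + 1 = δY ξ := by omega
  have hxgen : IsGen f x := (delta_le_of_gen f hX hgen x).2 hg'
  obtain ⟨n, hn⟩ := EquidimLib.exists_dimBetween_eq_nat hξ
  have hn1 : EquidimLib.dimBetween ξ (f x) ≤ 1 := by
    have := delta_eq_add hY hξ hn
    rw [hn]
    exact_mod_cast (show n ≤ 1 by omega)
  rw [if_pos hg', dif_pos ⟨hξ, hy⟩, ordAt_div _ hn1 ha hb, sub_mul]
  suffices key : ∀ c : Y.presheaf.stalk (f x), Cyc.specMap (f x) ξ hξ c ≠ 0 →
      Cyc.ordAt (f x) ξ hξ (Cyc.specMap (f x) ξ hξ c) *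
        ((Module.length (X.presheaf.stalk x) (X.presheaf.stalk x ⧸ fibIdeal f x)).toNat : ℤ) =
      ∑ ζ ∈ hfin.toFinset.attach, m ζ * o ζ (Cyc.specMap (f x) ξ hξ c) by
    rw [← key a ha, ← key b hb]
  intro c hc
  letI : Algebra (Y.presheaf.stalk (f x)) (X.presheaf.stalk x) := (f.stalkMap x).hom.toAlgebra
  haveI : Module.Flat (Y.presheaf.stalk (f x)) (X.presheaf.stalk x) := Flat.stalkMap f x
  haveI : IsLocalHom (algebraMap (Y.presheaf.stalk (f x)) (X.presheaf.stalk x)) :=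
    inferInstanceAs (IsLocalHom (f.stalkMap x).hom)
  have hcP : c ∉ (primeOf hξ).asIdeal := fun h => hc ((specMap_eq_zero_iff hξ c).2 h)
  have hA : Module.length (Y.presheaf.stalk (f x)) (Y.presheaf.stalk (f x) ⧸ (primeOf hξ).asIdeal ⊔ Ideal.span {c}) ≠ ⊤ := by
    rw [← length_quot_quot]
    haveI : Ring.KrullDimLE 1 (Y.presheaf.stalk (f x) ⧸ (primeOf hξ).asIdeal) :=
      Ring.krullDimLE_iff.2 ((dim_quotient hξ).le.trans hn1)
    exact Ring.ord_ne_top (mem_nonZeroDivisors_of_ne_zero fun h => hcP (Ideal.Quotient.eq_zero_iff_mem.1 h))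
  have hsum := flat_length_sum (B := X.presheaf.stalk x) (primeOf hξ).asIdeal c hcP hA (length_ne_top f hxgen)
  let φ : T → PrimeSpectrum (X.presheaf.stalk x) := fun ζ => primeOf (hT ζ)
  have hφ : ∀ p : PrimeSpectrum (X.presheaf.stalk x),
      ((primeOf hξ).asIdeal.map (algebraMap _ (X.presheaf.stalk x)) ≤ p.asIdeal ∧ p.asIdeal ≠ maximalIdeal _) ↔
        p ∈ hfin.toFinset.attach.image φ := fun p => by
    rw [Finset.mem_image]
    constructor
    · rintro ⟨hIp, hmax⟩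
      let ζ := EquidimLib.stalkPt x p
      have hζ : ζ ⤳ x := EquidimLib.stalkPt_specializes x p
      have hne' : ζ ≠ x := fun h => hmax (congrArg PrimeSpectrum.asIdeal
        (EquidimLib.stalkPt_injective x (h.trans Scheme.fromSpecStalk_closedPoint.symm) : p = closedPoint _))
      have h1 : ξ ⤳ f ζ := by
        have hle : primeOf hξ ≤ PrimeSpectrum.comap (f.stalkMap x).hom p := Ideal.map_le_iff_le_comap.1 hIp
        have h4 := EquidimLib.specializes_stalkPt hle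
        rw [stalkPt_primeOf] at h4
        refine h4.trans (specializes_of_eq ?_)
        show (Spec.map (f.stalkMap x) ≫ Y.fromSpecStalk (f x)) p = (X.fromSpecStalk x ≫ f) p
        rw [Scheme.SpecMap_stalkMap_fromSpecStalk]
      have hfζ : f ζ = ξ := by
        by_contra hn'
        have h3 := (hY.2.2 ξ (f ζ) h1 (Ne.symm hn')).1
        by_cases h5 : f ζ = f x
        · exact hne' (hxgen ζ h5 hζ)
        · have h4 := (hY.2.2 (f ζ) (f x) (hζ.map f.continuous) h5).1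
          omega
      obtain ⟨hgenζ, -⟩ := isGen_of_over f hX hgen hζ hne' hfζ e
      refine ⟨⟨⟨ζ, hgenζ, hfζ⟩, hfin.mem_toFinset.2 hζ⟩, Finset.mem_attach _ _, ?_⟩
      exact EquidimLib.stalkPt_injective x (stalkPt_primeOf hζ)
    · rintro ⟨⟨⟨ζ, hgenζ, hfζ⟩, hζm⟩, -, rfl⟩
      have hζ : ζ ⤳ x := hfin.mem_toFinset.1 hζm
      refine ⟨fun c' hc' => ?_, fun h => ?_⟩
      · show X.presheaf.stalkSpecializes hζ c' ∈ maximalIdeal _
        exact fibIdeal_le f ζ (map_map_primeOf f hfζ hξ hζ ▸ Ideal.mem_map_of_mem _ hc')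
      · have h' : primeOf hζ = closedPoint _ := PrimeSpectrum.ext h
        have := congrArg (EquidimLib.stalkPt x) h'
        rw [stalkPt_primeOf] at this
        have hζx : ζ = x := this.trans Scheme.fromSpecStalk_closedPoint
        have := hdim ⟨ζ, hgenζ, hfζ⟩
        simp only [hζx] at this
        omega
  rw [finsum_congr fun p => finsum_congr_Prop (propext (hφ p)) fun _ => rfl,
    finsum_mem_finset_eq_sum, Finset.sum_image (fun a _ b _ h => ?_)] at hsum
  swap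
  · have := congrArg (EquidimLib.stalkPt x) h
    simp only [φ, stalkPt_primeOf] at this
    exact Subtype.ext (Subtype.ext this)
  have hm : ∀ ζ : T,
      Module.length (Localization.AtPrime (φ ζ).asIdeal) (LocalizedModule (φ ζ).asIdeal.primeCompl
        (X.presheaf.stalk x ⧸ (primeOf hξ).asIdeal.map (algebraMap (Y.presheaf.stalk (f x)) (X.presheaf.stalk x)))) =
      Module.length (X.presheaf.stalk ζ.1.1) (X.presheaf.stalk ζ.1.1 ⧸ fibIdeal f ζ.1.1) := fun ζ => by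
    letI := (X.presheaf.stalkSpecializes (hfin.mem_toFinset.1 ζ.2)).hom.toAlgebra
    haveI := isLocalization_stalkSpecializes (hfin.mem_toFinset.1 ζ.2)
    rw [length_localized_quotient (φ ζ).asIdeal (X.presheaf.stalk ζ.1.1),
      ← map_map_primeOf f ζ.1.2.2 hξ (hfin.mem_toFinset.1 ζ.2)]
    rfl
  have hord : ∀ ζ : T, Module.length (X.presheaf.stalk x)
      (X.presheaf.stalk x ⧸ (φ ζ).asIdeal ⊔ Ideal.span {algebraMap (Y.presheaf.stalk (f x)) (X.presheaf.stalk x) c}) ≠ ⊤ :=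
    fun ζ => by
    rw [← length_quot_quot]
    haveI : Ring.KrullDimLE 1 (X.presheaf.stalk x ⧸ (φ ζ).asIdeal) :=
      Ring.krullDimLE_iff.2 ((dim_quotient _).le.trans (hd1 ζ))
    refine Ring.ord_ne_top (mem_nonZeroDivisors_of_ne_zero fun h => ?_)
    exact hne ζ c hc ((specMap_eq_zero_iff _ _).2 (Ideal.Quotient.eq_zero_iff_mem.1 h))
  have hsum' := congrArg (fun t : ℕ∞ => (t.toNat : ℤ)) hsum
  simp only at hsum'
  rw [ENat.toNat_mul, Nat.cast_mul] at hsum'
  replace hsum' := hsum'.trans (toNat_sum hfin.toFinset.attach _ fun ζ _ => WithTop.mul_ne_top (hord ζ)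
    ((hm ζ).trans_ne (length_ne_top f ζ.1.2.1)))
  rw [ordAt_specMap hξ hn1 hc]
  refine hsum'.trans (Finset.sum_congr rfl fun ζ _ => ?_)
  simp only [o, m]
  rw [gpull_specMap f ζ.1.2.2 hξ (hT ζ), ENat.toNat_mul, Nat.cast_mul, hm ζ,
    ordAt_specMap _ (hd1 ζ) (hne ζ c hc), mul_comm]
  rfl

/-- Flat pullback of a principal divisor. -/
theorem pullFun_divFun [Flat f] [LocallyOfFiniteType f] {δX : X → ℤ} {δY : Y → ℤ} (hX : Cyc.IsSetup X δX)
    (hY : Cyc.IsSetup Y δY) {r : ℕ} (hr : Cyc.HasRelDim f r) (hδ : Cyc.DeltaCompat f δX δY) (ξ : Y)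
    {g : Y.residueField ξ} (hg : g ≠ 0) (x : X) :
    Cyc.pullFun f δX δY r (Cyc.divFun δY ξ g) x =
      ∑ᶠ ζ : {ζ : X // IsGen f ζ ∧ f ζ = ξ},
        ((Module.length (X.presheaf.stalk ζ.1) (X.presheaf.stalk ζ.1 ⧸ fibIdeal f ζ.1)).toNat : ℤ) *
          Cyc.divFun δX ζ.1 (gpull f ζ.2.2 g) x :=
  pullFun_divFun_of_gen f hX hY (fun z hz => delta_eq_of_gen f hδ hr hz) ξ hg x

end CycDivLib

end
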